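import Groth.Prelude.Def_SGA4hB
import Mathlib

/-!
Homotopy invariance of the alternating product of `det(1 - s u)` for a nilpotent scalar `s`.
-/

set_option autoImplicit false
universe u

open CategoryTheory TensorProduct

namespace Groth.Agent.EulerDetLib

theorem det_one_add_comp_comm {S : Type*} [CommRing S] {M N : Type*} [AddCommGroup M] [Module S M]
    [AddCommGroup N] [Module S N] [Module.Free S M] [Module.Finite S M] [Module.Free S N]
    [Module.Finite S N] (x : M →ₗ[S] N) (y : N →ₗ[S] M) :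
    LinearMap.det (LinearMap.id + y ∘ₗ x) = LinearMap.det (LinearMap.id + x ∘ₗ y) := by
  classical
  let bM := Module.Free.chooseBasis S M
  let bN := Module.Free.chooseBasis S N
  rw [← LinearMap.det_toMatrix bM, ← LinearMap.det_toMatrix bN, map_add, map_add,
    LinearMap.toMatrix_id, LinearMap.toMatrix_id, LinearMap.toMatrix_comp bM bN bM,
    LinearMap.toMatrix_comp bN bM bN, Matrix.det_one_add_mul_comm]

theorem det_id_sub_smul {S : Type*} [CommRing S] {P : Type*} [AddCommGroup P] [Module S P]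
    {ι : Type*} [Fintype ι] [DecidableEq ι] (s : S) (b : Module.Basis ι S P) (g : P →ₗ[S] P) :
    LinearMap.det (LinearMap.id - s • g) = Matrix.det (1 - s • LinearMap.toMatrix b b g) := by
  rw [← LinearMap.det_toMatrix b, map_sub, map_smul, LinearMap.toMatrix_id]

section Parity

variable {R : Type*} [CommMonoid R]

noncomputable def pE (f : ℤ → R) : R := ∏ᶠ i : {i : ℤ // Even i}, f i.1
noncomputable def pO (f : ℤ → R) : R := ∏ᶠ i : {i : ℤ // Odd i}, f i.1

lemma finite_restrict {f : ℤ → R} {a b : ℤ} (h : ∀ i, i < a ∨ b < i → f i = 1) (P : ℤ → Prop) :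
    Function.HasFiniteMulSupport (fun i : {i // P i} => f i.1) := by
  refine Set.Finite.subset ((Set.finite_Icc a b).preimage Subtype.val_injective.injOn) fun i hi => ?_
  by_contra hi'
  refine hi (h i.1 ?_)
  simp only [Set.mem_preimage, Set.mem_Icc, not_and_or, not_le] at hi'
  exact hi'

lemma pE_mul {f g : ℤ → R} {a b : ℤ} (hf : ∀ i, i < a ∨ b < i → f i = 1)
    (hg : ∀ i, i < a ∨ b < i → g i = 1) : pE (fun i => f i * g i) = pE f * pE g :=
  finprod_mul_distrib (finite_restrict hf _) (finite_restrict hg _)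

lemma pO_mul {f g : ℤ → R} {a b : ℤ} (hf : ∀ i, i < a ∨ b < i → f i = 1)
    (hg : ∀ i, i < a ∨ b < i → g i = 1) : pO (fun i => f i * g i) = pO f * pO g :=
  finprod_mul_distrib (finite_restrict hf _) (finite_restrict hg _)

lemma pE_shift (f : ℤ → R) : pE (fun i => f (i - 1)) = pO f :=
  finprod_eq_of_bijective (fun i : {i : ℤ // Even i} => (⟨i.1 - 1, i.2.sub_odd odd_one⟩ :
      {i : ℤ // Odd i}))
    ⟨fun x y h => Subtype.ext (by simpa using congrArg Subtype.val h),
      fun y => ⟨⟨y.1 + 1, y.2.add_one⟩, Subtype.ext (by simp)⟩⟩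
    fun _ => rfl

lemma pO_shift (f : ℤ → R) : pO (fun i => f (i - 1)) = pE f :=
  finprod_eq_of_bijective (fun i : {i : ℤ // Odd i} => (⟨i.1 - 1, i.2.sub_odd odd_one⟩ :
      {i : ℤ // Even i}))
    ⟨fun x y h => Subtype.ext (by simpa using congrArg Subtype.val h),
      fun y => ⟨⟨y.1 + 1, y.2.add_one⟩, Subtype.ext (by simp)⟩⟩
    fun _ => rfl

lemma map_pE {R' : Type*} [CommMonoid R'] (φ : R →* R') {f : ℤ → R} {a b : ℤ}
    (hf : ∀ i, i < a ∨ b < i → f i = 1) : φ (pE f) = pE (fun i => φ (f i)) :=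
  MonoidHom.map_finprod φ (finite_restrict hf _)

lemma map_pO {R' : Type*} [CommMonoid R'] (φ : R →* R') {f : ℤ → R} {a b : ℤ}
    (hf : ∀ i, i < a ∨ b < i → f i = 1) : φ (pO f) = pO (fun i => φ (f i)) :=
  MonoidHom.map_finprod φ (finite_restrict hf _)

end Parity

variable {A : Type u} [CommRing A]

noncomputable def dS (S : Type u) [CommRing S] [Algebra A S] (s : S) (M : ModuleCat.{u} A)
    (f : M ⟶ M) : S :=
  LinearMap.det (LinearMap.id - s • f.hom.baseChange S)

lemma dS_eq (S : Type u) [CommRing S] [Algebra A S] (s : S) (M : ModuleCat.{u} A) (f : M ⟶ M)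
    {ι : Type*} [Fintype ι] [DecidableEq ι] (b : Module.Basis ι A M) :
    dS S s M f = Matrix.det (1 - s • (LinearMap.toMatrix b b f.hom).map (algebraMap A S)) := by
  refine (det_id_sub_smul s (Algebra.TensorProduct.basis S b) (f.hom.baseChange S)).trans ?_
  rw [LinearMap.toMatrix_baseChange]

lemma map_detOneSub (S : Type u) [CommRing S] [Algebra A S] (φ : Polynomial A →ₐ[A] S)
    (M : ModuleCat.{u} A) [Module.Free A M] [Module.Finite A M] (f : M ⟶ M) :
    φ (SGA4h.detOneSub M f) = dS S (φ Polynomial.X) M f := by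
  classical
  rw [show SGA4h.detOneSub M f = dS (Polynomial A) Polynomial.X M f from rfl,
    dS_eq _ _ M f (Module.Free.chooseBasis A M), dS_eq _ _ M f (Module.Free.chooseBasis A M),
    AlgHom.map_det]
  congr 1
  ext i j
  simp only [AlgHom.mapMatrix_apply, Matrix.map_apply, Matrix.sub_apply, Matrix.smul_apply,
    smul_eq_mul, map_sub, map_mul, AlgHom.commutes, Matrix.one_apply, apply_ite φ, map_one, map_zero]

variable (S : Type u) [CommRing S] [Algebra A S] (s : S)

lemma dS_of_isZero {M : ModuleCat.{u} A} (h : Limits.IsZero M) (f : M ⟶ M) : dS S s M f = 1 := by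
  haveI : Subsingleton M := ModuleCat.subsingleton_of_isZero h
  haveI : Subsingleton (S ⊗[A] M) := subsingleton_of_forall_eq 0 fun z => by
    induction z with
    | zero => rfl
    | tmul x m => rw [Subsingleton.elim m 0, TensorProduct.tmul_zero]
    | add x y hx hy => rw [hx, hy, add_zero]
  exact LinearMap.det_eq_one_of_subsingleton _

lemma dS_comm {M N : ModuleCat.{u} A} [Module.Free A M] [Module.Finite A M] [Module.Free A N]
    [Module.Finite A N] (x : M ⟶ N) (y : N ⟶ M) : dS S s M (x ≫ y) = dS S s N (y ≫ x) := by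
  unfold dS
  rw [ModuleCat.hom_comp, ModuleCat.hom_comp, LinearMap.baseChange_comp, LinearMap.baseChange_comp]
  have key : ∀ {P : Type u} [AddCommGroup P] [Module A P] (g : S ⊗[A] P →ₗ[S] S ⊗[A] P),
      LinearMap.id - s • g = LinearMap.id + (-s) • g := fun {P} _ _ g => LinearMap.ext fun z => by
    simp [sub_eq_add_neg]
  rw [key, key, ← LinearMap.smul_comp, det_one_add_comp_comm, LinearMap.comp_smul]

omit [Algebra A S] in
theorem abstract_homotopy {P : ℤ → Type u} [∀ i, AddCommGroup (P i)] [∀ i, Module S (P i)]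
    [∀ i, Module.Free S (P i)] [∀ i, Module.Finite S (P i)]
    (U V : ∀ i, Module.End S (P i)) (d : ∀ i, P i →ₗ[S] P (i + 1))
    (h : ∀ i, P (i + 1) →ₗ[S] P i) (hUd : ∀ i, U (i + 1) ∘ₗ d i = d i ∘ₗ U i)
    (hdd : ∀ i, d (i + 1) ∘ₗ d i = 0)
    (hUV : ∀ i, U (i + 1) - V (i + 1) = h (i + 1) ∘ₗ d (i + 1) + d i ∘ₗ h i)
    {a b : ℤ} (hsub : ∀ i, i < a ∨ b < i → Subsingleton (P i)) {N : ℕ} (hs : s ^ N = 0) :
    ∃ c : S, pE (fun i => LinearMap.det (1 - s • V i)) = pE (fun i => LinearMap.det (1 - s • U i)) * c ∧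
      pO (fun i => LinearMap.det (1 - s • V i)) = pO (fun i => LinearMap.det (1 - s • U i)) * c := by
  let q : ∀ i, Module.End S (P i) := fun i => ∑ k ∈ Finset.range N, (s • U i) ^ k
  let e : ∀ i, Module.End S (P i) := fun i => q i * (1 - s • V i)
  let h' : ∀ i, P (i + 1) →ₗ[S] P i := fun i => s • (q i ∘ₗ h i)
  let D : ℤ → S := fun i => LinearMap.det (LinearMap.id + h' i ∘ₗ d i)
  have hgq : ∀ i, (1 - s • U i) * q i = 1 := fun i => by
    rw [mul_neg_geom_sum, smul_pow, hs, zero_smul, sub_zero]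
  have hqg : ∀ i, q i * (1 - s • U i) = 1 := fun i => by
    rw [geom_sum_mul_neg, smul_pow, hs, zero_smul, sub_zero]
  have hqd : ∀ i, q (i + 1) ∘ₗ d i = d i ∘ₗ q i := fun i => by
    have hp : ∀ k : ℕ, ((s • U (i + 1)) ^ k) ∘ₗ d i = d i ∘ₗ ((s • U i) ^ k) := by
      intro k
      induction k with
      | zero => rw [pow_zero, pow_zero]; rfl
      | succ k ih =>
        rw [pow_succ, pow_succ, Module.End.mul_eq_comp, Module.End.mul_eq_comp, LinearMap.comp_assoc,
          LinearMap.smul_comp, hUd, ← LinearMap.comp_smul, ← LinearMap.comp_assoc, ih,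
          LinearMap.comp_assoc]
    ext x
    simp only [q, LinearMap.comp_apply, LinearMap.coe_sum, Finset.sum_apply, map_sum]
    exact Finset.sum_congr rfl fun k _ => LinearMap.congr_fun (hp k) x
  have he : ∀ i, LinearMap.det (e (i + 1)) = D (i + 1) * D i := fun i => by
    have e1 : e (i + 1) = 1 + s • (q (i + 1) * (U (i + 1) - V (i + 1))) := by
      show q (i + 1) * (1 - s • V (i + 1)) = _
      rw [show (1 : Module.End S (P (i + 1))) - s • V (i + 1)
        = (1 - s • U (i + 1)) + s • (U (i + 1) - V (i + 1)) by rw [smul_sub]; abel,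
        mul_add, hqg, mul_smul_comm]
    have e2 : e (i + 1)
        = (LinearMap.id + h' (i + 1) ∘ₗ d (i + 1)) ∘ₗ (LinearMap.id + d i ∘ₗ h' i) := by
      rw [e1, hUV, Module.End.mul_eq_comp, LinearMap.comp_add, ← LinearMap.comp_assoc,
        ← LinearMap.comp_assoc, hqd]
      have hz0 : (h' (i + 1) ∘ₗ d (i + 1)) ∘ₗ (d i ∘ₗ h' i) = 0 := by
        rw [LinearMap.comp_assoc, ← LinearMap.comp_assoc (h' i), hdd, LinearMap.zero_comp,
          LinearMap.comp_zero]
      simp only [LinearMap.add_comp, LinearMap.comp_add, hz0, LinearMap.id_comp,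
        LinearMap.comp_id, add_zero]
      simp only [h', smul_add, LinearMap.smul_comp, LinearMap.comp_smul, LinearMap.comp_assoc,
        Module.End.one_eq_id]
      abel
    rw [e2, LinearMap.det_comp]
    exact congrArg (D (i + 1) * ·) (det_one_add_comp_comm (h' i) (d i))
  have hD1 : ∀ i, i < a ∨ b < i → D i = 1 := fun i hi => by
    haveI := hsub i hi
    exact LinearMap.det_eq_one_of_subsingleton _
  have hD1' : ∀ i, i < a ∨ b + 1 < i → D (i - 1) = 1 := fun i hi => hD1 _ (by omega)
  have hD1'' : ∀ i, i < a ∨ b + 1 < i → D i = 1 := fun i hi => hD1 _ (by omega)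
  have hdet : (fun i => LinearMap.det (e i)) = fun i => D i * D (i - 1) := funext fun i => by
    obtain ⟨j, rfl⟩ : ∃ j, i = j + 1 := ⟨i - 1, by omega⟩
    rw [he, add_sub_cancel_right]
  have hfac : (fun i => LinearMap.det (1 - s • V i))
      = fun i => LinearMap.det (1 - s • U i) * LinearMap.det (e i) := funext fun i => by
    rw [← map_mul, ← mul_assoc, hgq, one_mul]
  have hu1 : ∀ i, i < a ∨ b < i → LinearMap.det (1 - s • U i) = 1 := fun i hi => by
    haveI := hsub i hi
    exact LinearMap.det_eq_one_of_subsingleton _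
  have he1 : ∀ i, i < a ∨ b < i → LinearMap.det (e i) = 1 := fun i hi => by
    haveI := hsub i hi
    exact LinearMap.det_eq_one_of_subsingleton _
  refine ⟨pE D * pO D, ?_, ?_⟩
  · rw [hfac, pE_mul hu1 he1, hdet, pE_mul hD1'' hD1', pE_shift]
  · rw [hfac, pO_mul hu1 he1, hdet, pO_mul hD1'' hD1', pO_shift, mul_comm (pO D)]

theorem homotopy_dS {K : CochainComplex (ModuleCat.{u} A) ℤ} {u v : K ⟶ K} (H : Homotopy u v)
    {a b : ℤ} (hz : ∀ i, i < a ∨ b < i → Limits.IsZero (K.X i))
    (hF : ∀ i, Module.Finite A (K.X i) ∧ Module.Free A (K.X i)) {N : ℕ} (hs : s ^ N = 0) :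
    ∃ c : S, pE (fun i => dS S s (K.X i) (v.f i)) = pE (fun i => dS S s (K.X i) (u.f i)) * c ∧
      pO (fun i => dS S s (K.X i) (v.f i)) = pO (fun i => dS S s (K.X i) (u.f i)) * c := by
  haveI := fun i => (hF i).1
  haveI := fun i => (hF i).2
  refine abstract_homotopy S s (P := fun i => S ⊗[A] K.X i)
    (fun i => (u.f i).hom.baseChange S) (fun i => (v.f i).hom.baseChange S)
    (fun i => (K.d i (i + 1)).hom.baseChange S) (fun i => (H.hom (i + 1) i).hom.baseChange S)
    (fun i => ?_) (fun i => ?_) (fun i => ?_) (a := a) (b := b) (fun i hi => ?_) hs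
  · rw [← LinearMap.baseChange_comp, ← LinearMap.baseChange_comp, ← ModuleCat.hom_comp,
      ← ModuleCat.hom_comp, u.comm i (i + 1)]
  · rw [← LinearMap.baseChange_comp, ← ModuleCat.hom_comp, K.d_comp_d, ModuleCat.hom_zero,
      LinearMap.baseChange_zero]
  · have e0 := H.comm (i + 1)
    rw [dNext_eq H.hom (show (ComplexShape.up ℤ).Rel (i + 1) (i + 1 + 1) by simp),
      prevD_eq H.hom (show (ComplexShape.up ℤ).Rel i (i + 1) by simp)] at e0
    refine (sub_eq_iff_eq_add (G := S ⊗[A] K.X (i + 1) →ₗ[S] S ⊗[A] K.X (i + 1))).mpr ?_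
    rw [e0, ← LinearMap.baseChange_comp, ← LinearMap.baseChange_comp,
      ← LinearMap.baseChange_add, ← LinearMap.baseChange_add, ModuleCat.hom_add, ModuleCat.hom_add,
      ModuleCat.hom_comp, ModuleCat.hom_comp]
  · haveI : Subsingleton (K.X i) := ModuleCat.subsingleton_of_isZero (hz i hi)
    exact subsingleton_of_forall_eq 0 fun z => by
      induction z with
      | zero => rfl
      | tmul x m => rw [Subsingleton.elim m 0, TensorProduct.tmul_zero]
      | add x y hx hy => rw [hx, hy, add_zero]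

end Groth.Agent.EulerDetLib
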